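import Mathlib

/-! Descent along the inverse image of a reflexive pair. -/

set_option autoImplicit false
universe v₁ u₁

open CategoryTheory Limits

namespace Groth.Agent.InvPair

variable {C : Type u₁} [Category.{v₁} C] [HasPullbacks C] {X₁ X₀ Y₀ : C} (d₀ d₁ : X₁ ⟶ X₀) (f₀ : Y₀ ⟶ X₀)

/-- First projection of the inverse-image pair. -/
noncomputable abbrev p₁ : pullback (pullback.snd f₀ d₁ ≫ d₀) f₀ ⟶ Y₀ :=
  pullback.fst (pullback.snd f₀ d₁ ≫ d₀) f₀ ≫ pullback.fst f₀ d₁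

/-- Second projection of the inverse-image pair. -/
noncomputable abbrev p₀ : pullback (pullback.snd f₀ d₁ ≫ d₀) f₀ ⟶ Y₀ :=
  pullback.snd (pullback.snd f₀ d₁ ≫ d₀) f₀

variable {d₀ d₁ f₀}

theorem desc {s : X₀ ⟶ X₁} (hs₀ : s ≫ d₀ = 𝟙 X₀) (hs₁ : s ≫ d₁ = 𝟙 X₀) [EffectiveEpi f₀]
    (hf : MorphismProperty.universally (MorphismProperty.epimorphisms C) f₀)
    {T : C} (g : Y₀ ⟶ T) (hg : p₁ d₀ d₁ f₀ ≫ g = p₀ d₀ d₁ f₀ ≫ g) :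
    ∃! h : X₀ ⟶ T, d₁ ≫ h = d₀ ≫ h ∧ f₀ ≫ h = g := by
  have hk : ∀ {Z : C} (g₁ g₂ : Z ⟶ Y₀), g₁ ≫ f₀ = g₂ ≫ f₀ → g₁ ≫ g = g₂ ≫ g := by
    intro Z g₁ g₂ h
    have h1 : g₁ ≫ f₀ = (g₁ ≫ f₀ ≫ s) ≫ d₁ := by simp [hs₁]
    have h2 : (pullback.lift g₁ (g₁ ≫ f₀ ≫ s) h1 ≫ pullback.snd f₀ d₁ ≫ d₀) = g₂ ≫ f₀ := by
      rw [pullback.lift_snd_assoc]; simp [hs₀, h]
    have e := congrArg (pullback.lift _ g₂ h2 ≫ ·) hg
    simp only [p₁, p₀, Category.assoc, pullback.lift_fst_assoc, pullback.lift_snd_assoc] at e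
    exact e
  let h : X₀ ⟶ T := EffectiveEpi.desc f₀ g hk
  have hh : f₀ ≫ h = g := EffectiveEpi.fac f₀ g hk
  have e₁ : Epi (pullback.snd f₀ d₁) := hf _ _ _ (IsPullback.of_hasPullback f₀ d₁).flip
  have e₂ : Epi (pullback.fst (pullback.snd f₀ d₁ ≫ d₀) f₀) :=
    hf _ _ _ (IsPullback.of_hasPullback (pullback.snd f₀ d₁ ≫ d₀) f₀)
  refine ⟨h, ⟨?_, hh⟩, fun k hk' => EffectiveEpi.uniq f₀ g hk k hk'.2⟩
  rw [← cancel_epi (pullback.snd f₀ d₁), ← cancel_epi (pullback.fst (pullback.snd f₀ d₁ ≫ d₀) f₀)]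
  have c₁ : pullback.fst f₀ d₁ ≫ f₀ = pullback.snd f₀ d₁ ≫ d₁ := pullback.condition
  have c₀ : pullback.fst (pullback.snd f₀ d₁ ≫ d₀) f₀ ≫ pullback.snd f₀ d₁ ≫ d₀ =
      pullback.snd (pullback.snd f₀ d₁ ≫ d₀) f₀ ≫ f₀ := pullback.condition
  rw [← reassoc_of% c₁, hh, reassoc_of% c₀, hh]
  simpa [p₁, p₀] using hg

theorem condition {Q : C} (π : X₀ ⟶ Q) (hπ : d₁ ≫ π = d₀ ≫ π) :
    p₁ d₀ d₁ f₀ ≫ f₀ ≫ π = p₀ d₀ d₁ f₀ ≫ f₀ ≫ π := by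
  have c₁ : pullback.fst f₀ d₁ ≫ f₀ = pullback.snd f₀ d₁ ≫ d₁ := pullback.condition
  have c₀ : pullback.fst (pullback.snd f₀ d₁ ≫ d₀) f₀ ≫ pullback.snd f₀ d₁ ≫ d₀ =
      pullback.snd (pullback.snd f₀ d₁ ≫ d₀) f₀ ≫ f₀ := pullback.condition
  simp only [p₁, p₀, Category.assoc, reassoc_of% c₁, hπ, reassoc_of% c₀]

theorem hasCoequalizer_iff {s : X₀ ⟶ X₁} (hs₀ : s ≫ d₀ = 𝟙 X₀) (hs₁ : s ≫ d₁ = 𝟙 X₀) [EffectiveEpi f₀]
    (hf : MorphismProperty.universally (MorphismProperty.epimorphisms C) f₀) :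
    HasCoequalizer d₁ d₀ ↔ HasCoequalizer (p₁ d₀ d₁ f₀) (p₀ d₀ d₁ f₀) := by
  constructor
  · intro H
    have hc : ∀ {T : C} (g : Y₀ ⟶ T), p₁ d₀ d₁ f₀ ≫ g = p₀ d₀ d₁ f₀ ≫ g →
        ∃ l : coequalizer d₁ d₀ ⟶ T, (f₀ ≫ coequalizer.π d₁ d₀) ≫ l = g := by
      intro T g hg
      obtain ⟨h, ⟨h1, h2⟩, -⟩ := desc hs₀ hs₁ hf g hg
      exact ⟨coequalizer.desc h h1, by rw [Category.assoc, coequalizer.π_desc, h2]⟩
    exact HasColimit.mk ⟨Cofork.ofπ (f₀ ≫ coequalizer.π d₁ d₀) (condition _ (coequalizer.condition d₁ d₀)),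
      Cofork.IsColimit.mk _ (fun t => (hc t.π t.condition).choose) (fun t => (hc t.π t.condition).choose_spec)
        fun t m hm => by
          rw [← cancel_epi (f₀ ≫ coequalizer.π d₁ d₀)]
          exact hm.trans (hc t.π t.condition).choose_spec.symm⟩
  · intro H
    obtain ⟨q, ⟨q1, q2⟩, -⟩ := desc hs₀ hs₁ hf _ (coequalizer.condition (p₁ d₀ d₁ f₀) (p₀ d₀ d₁ f₀))
    exact HasColimit.mk ⟨Cofork.ofπ q q1,
      Cofork.IsColimit.mk _ (fun t => coequalizer.desc (f₀ ≫ t.π) (condition t.π t.condition))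
        (fun t => by
          rw [← cancel_epi f₀, Cofork.π_ofπ, reassoc_of% q2, coequalizer.π_desc])
        fun t m hm => by
          refine coequalizer.hom_ext (f := p₁ d₀ d₁ f₀) (g := p₀ d₀ d₁ f₀) (k := m) ?_
          erw [coequalizer.π_desc]
          rw [← hm, Cofork.π_ofπ, reassoc_of% q2]⟩

end Groth.Agent.InvPair
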